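import Groth.Agent.H16.RlimInjB

/-!
# Local injectivity on homology sheaves from a sectionwise boundary criterion (helper45)

Abstract form of helper16's `RlimInjD.core_chain`: for a morphism `Φ : S ⟶ S'` of short complexes of abelian
sheaves and a class `P` of objects on which "a cycle of `S` whose image in `S'` is a boundary is a boundary",
a section of the homology of `S` dying in the homology of `S'` vanishes on every member of a suitable covering
sieve which lies in `P`.
-/

set_option autoImplicit false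
universe u
open CategoryTheory CategoryTheory.Limits Opposite

namespace Groth.Agent.H45.RlimMod

open Groth.Agent.H16 Groth.Agent.H16.RlimInjB

variable {C : Type u} [SmallCategory C] {J : GrothendieckTopology C}

theorem local_injective {S S' : ShortComplex (Sheaf J AddCommGrpCat.{u})} (Φ : S ⟶ S')
    (P : C → Prop)
    (hP : ∀ Y : C, P Y → ∀ x : S.X₂.obj.obj (op Y), (S.g.hom.app (op Y)).hom x = 0 →
      (∃ b : S'.X₁.obj.obj (op Y), (S'.f.hom.app (op Y)).hom b = (Φ.τ₂.hom.app (op Y)).hom x) →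
      ∃ y : S.X₁.obj.obj (op Y), (S.f.hom.app (op Y)).hom y = x)
    (V : C) (s : S.homology.obj.obj (op V))
    (hs : ((ShortComplex.homologyMap Φ).hom.app (op V)).hom s = 0) :
    ∃ T : Sieve V, T ∈ J V ∧ ∀ ⦃Y : C⦄ (f : Y ⟶ V), T.arrows f → P Y →
      (S.homology.obj.map f.op).hom s = 0 := by
  obtain ⟨T₁, hT₁, h₁⟩ := homology_local_cycles S V s
  choose cc hcc using h₁
  have h₂ : ∀ ⦃W : C⦄ (f : W ⟶ V) (hf : T₁.arrows f),
      ((S'.homologyπ).hom.app (op W)).hom
        (((ShortComplex.cyclesMap Φ).hom.app (op W)).hom (cc f hf)) = 0 := by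
    intro W f hf
    rw [← RlimInjB.comp_apply' J, ← ShortComplex.homologyπ_naturality, RlimInjB.comp_apply' J, hcc f hf]
    rw [RlimInjB.res_comm J]
    have : ((ShortComplex.homologyMap Φ).hom.app (op V)).hom s = 0 := hs
    rw [this, map_zero]
  have h₃ := fun ⦃W : C⦄ (f : W ⟶ V) (hf : T₁.arrows f) =>
    cycles_local_boundary S' W _ (h₂ f hf)
  choose T₂ hT₂ h₃' using h₃
  refine ⟨Sieve.bind T₁.arrows T₂, J.bind_covering hT₁ (fun _ f hf => hT₂ f hf), ?_⟩
  rintro Y _ ⟨W, g, f, hf, hg, rfl⟩ hY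
  obtain ⟨b, hb⟩ := h₃' f hf g hg
  let cY : S.cycles.obj.obj (op Y) := (S.cycles.obj.map g.op).hom (cc f hf)
  have hx : ∃ b, (S'.f.hom.app (op Y)).hom b =
      (Φ.τ₂.hom.app (op Y)).hom ((S.iCycles.hom.app (op Y)).hom cY) := by
    refine ⟨b, ?_⟩
    refine hb.trans ?_
    have e1 := RlimInjB.res_comm J S'.iCycles g
      (((ShortComplex.cyclesMap Φ).hom.app (op W)).hom (cc f hf))
    have e2 := RlimInjB.res_comm J (ShortComplex.cyclesMap Φ) g (cc f hf)
    have e3 : ((ShortComplex.cyclesMap Φ ≫ S'.iCycles).hom.app (op Y)).hom cY =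
        ((S.iCycles ≫ Φ.τ₂).hom.app (op Y)).hom cY := by rw [ShortComplex.cyclesMap_i]
    refine e1.symm.trans ?_
    rw [← e2]
    exact e3
  obtain ⟨y, hy⟩ := hP Y hY ((S.iCycles.hom.app (op Y)).hom cY) (iCycles_g_apply S Y cY) hx
  have h4 : (S.homologyπ.hom.app (op Y)).hom cY = 0 :=
    homologyπ_eq_zero_of_boundary S Y cY y hy
  have h5 : (S.homology.obj.map (g ≫ f).op).hom s =
      (S.homology.obj.map g.op).hom ((S.homology.obj.map f.op).hom s) := by
    rw [op_comp, Functor.map_comp]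
    rfl
  change (S.homology.obj.map (g ≫ f).op).hom s = 0
  rw [h5, ← hcc f hf, ← RlimInjB.res_comm J]
  exact h4

end Groth.Agent.H45.RlimMod
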