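import Groth.Agent.H45.RlimMod.CoreO
import Groth.Agent.H16.RlimTruncB
import Groth.Agent.H16.RlimTruncC
import Groth.Agent.H45.BddCompact.ModFreeOn

/-!
# `E = R lim τ_{≥ -n} E` in `D(O)` of a ringed site under cohomological vanishing (helper45)

Module versions of helper16's S0880 / S0881 (`RlimTruncB`, `RlimInjD`).
-/

set_option autoImplicit false
universe u
open CategoryTheory CategoryTheory.Limits Opposite Pretriangulated DerivedCategory

namespace Groth.Agent.H45.RlimMod

open Groth.Agent.H16

variable {C : Type u} [SmallCategory C] {J : GrothendieckTopology C} (O : Sheaf J CommRingCat.{u})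
  [HasDerivedCategory.{u} (ModSite.Mod O)]

/-- Injectivity of `H^m(L)(V) → H^m(K_N)(V)` for a derived limit `L` of `(K_n)` in `D(O)`, when every covering
sieve of `V` contains a covering family whose members satisfy the Milnor-type hypotheses. -/
theorem injective_of_hyp (K : ℕ → DerivedCategory (ModSite.Mod O)) (t : ∀ n, K (n + 1) ⟶ K n)
    [HasProduct K] (L : DerivedCategory (ModSite.Mod O)) (a : ∀ n, L ⟶ K n)
    (hL : CohCx.IsRlimVia K t L a) (V : C) (m : ℤ) (nV : ℕ)
    (h : ∀ T ∈ J V, ∃ (ι : Type u) (Y : ι → C) (f : ∀ i, Y i ⟶ V), (∀ i, T.arrows (f i)) ∧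
      Sieve.ofArrows Y f ∈ J V ∧ ∀ i, HypO O K t m nV (Y i)) :
    Function.Injective
      ((((toSh O).map ((DerivedCategory.homologyFunctor _ m).map (a nV))).hom.app (op V)).hom) := by
  refine (injective_iff_map_eq_zero
    ((((toSh O).map ((DerivedCategory.homologyFunctor _ m).map (a nV))).hom.app (op V)).hom)).2 ?_
  intro s hs
  obtain ⟨T, hT, hT'⟩ := core O K t L a hL V m nV s hs
  obtain ⟨ι, Y, f, hfT, hcov, hY⟩ := h T hT
  refine RlimInjB.eq_zero_of_cover J _ V s (Sieve.ofArrows Y f) hcov ?_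
  rintro W g ⟨Z, u, v, ⟨i⟩, rfl⟩
  have h1 := hT' (f i) (hfT i) (hY i)
  have h2 : ((HDO O L m).obj.map (u ≫ f i).op).hom s =
      ((HDO O L m).obj.map u.op).hom (((HDO O L m).obj.map (f i).op).hom s) := by
    rw [op_comp, Functor.map_comp]
    rfl
  refine h2.trans ?_
  rw [h1, map_zero]

/-- `H^m(Y, G[-a]) = H^{m-a}(Y, G)`: vanishing of the latter gives vanishing of the former. -/
lemma subsingleton_HDUO_of_HU (Y : C) (G : ModSite.Mod O)
    (F : DerivedCategory (ModSite.Mod O)) (a m : ℤ) (k : ℕ) (hk : m - a = k)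
    (e : F ≅ (DerivedCategory.singleFunctor _ a).obj G) (h : Subsingleton (ModSite.HU O G k Y)) :
    Subsingleton (HDUO O F m Y) := by
  have hE : HasExt.{u} (ModSite.Mod O) := hasExt_of_hasDerivedCategory _
  let i1 := (shiftFunctor (DerivedCategory (ModSite.Mod O)) m).mapIso e
  let i2 := ((singleFunctors (ModSite.Mod O)).shiftIso m (-(k : ℤ)) a (by omega)).app G
  let i3 := ((singleFunctors (ModSite.Mod O)).shiftIso (k : ℤ) (-(k : ℤ)) 0
    (by omega)).app G
  let i : F⟦m⟧ ≅ ((DerivedCategory.singleFunctor (ModSite.Mod O) 0).obj G)⟦(k : ℤ)⟧ :=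
    i1 ≪≫ i2 ≪≫ i3.symm
  obtain ⟨eqv⟩ := Groth.Agent.H45.BddCompact.nonempty_ext_freeOn_addEquiv O Y G k
  have h0 : Subsingleton (Abelian.Ext (CohCx.freeSheaf J Y)
      ((SheafOfModules.toSheaf.{u} (ModSite.ringSh O)).obj G) k) := h
  have h' : Subsingleton (Abelian.Ext (ModSite.freeOn O Y) G k) := eqv.toEquiv.subsingleton
  have h2 : Subsingleton (ShiftedHom ((DerivedCategory.singleFunctor (ModSite.Mod O) 0).obj
      (ModSite.freeOn O Y)) ((DerivedCategory.singleFunctor (ModSite.Mod O) 0).obj G) (k : ℤ)) :=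
    (Abelian.Ext.homEquiv (X := ModSite.freeOn O Y) (Y := G) (n := k)).symm.subsingleton
  constructor
  intro x y
  have h3 : x ≫ i.hom = y ≫ i.hom := @Subsingleton.elim _ h2 _ _
  exact (cancel_mono i.hom).1 h3

/-- Injectivity and surjectivity of the transition maps of `H^*(Y, τ_{≥ -n} E)` for large `n`. -/
lemma transition_inj_surj (E : DerivedCategory (ModSite.Mod O)) (Y : C) (m : ℤ) (pm : ℤ)
    (hvan : ∀ k : ℕ, pm < k → Subsingleton
      (ModSite.HU O ((DerivedCategory.homologyFunctor (ModSite.Mod O) (m - k)).obj E) k Y))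
    (n : ℕ) (hn1 : -m ≤ n) (hn2 : pm - m ≤ n) :
    Function.Injective (fun x : HDUO O (CohCx.truncTower E (n + 1)) m Y =>
        x ≫ (CohCx.truncTowerMap E n)⟦m⟧') ∧
      Function.Surjective (fun x : HDUO O (CohCx.truncTower E (n + 1)) (m - 1) Y =>
        x ≫ (CohCx.truncTowerMap E n)⟦m - 1⟧') := by
  obtain ⟨F, f, δ, hT, ⟨e⟩⟩ := RlimTruncA.exists_triangle E (-((n + 1 : ℕ) : ℤ)) (-(n : ℤ))
    (by push_cast; ring)
  have hk : ((m + n + 1).toNat : ℤ) = m + n + 1 := Int.toNat_of_nonneg (by omega)
  have hsub : Subsingleton (HDUO O F m Y) := by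
    refine subsingleton_HDUO_of_HU O Y
      ((DerivedCategory.homologyFunctor (ModSite.Mod O) (-((n + 1 : ℕ) : ℤ))).obj E) F
      (-((n + 1 : ℕ) : ℤ)) m (m + n + 1).toNat (by push_cast; omega) e ?_
    have h1 := hvan (m + n + 1).toNat (by omega)
    have h2 : m - ((m + n + 1).toNat : ℤ) = -((n + 1 : ℕ) : ℤ) := by push_cast; omega
    rwa [h2] at h1
  exact ⟨RlimTruncB.comp_injective_of_subsingleton _ hT _ m hsub,
    RlimTruncB.comp_surjective_of_subsingleton _ hT _ (m - 1) m (by omega) hsub⟩

/-- The Milnor-type hypotheses hold for the tower of truncations on an object with vanishing cohomology. -/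
theorem hyp_of_vanishing (E : DerivedCategory (ModSite.Mod O)) (Y : C) (m : ℤ) (pm : ℤ)
    (hvan : ∀ k : ℕ, pm < k → Subsingleton
      (ModSite.HU O ((DerivedCategory.homologyFunctor (ModSite.Mod O) (m - k)).obj E) k Y))
    (N : ℕ) (hN1 : -m ≤ N) (hN2 : pm - m ≤ N) :
    HypO O (CohCx.truncTower E) (CohCx.truncTowerMap E) m N Y := by
  have main := fun (n : ℕ) (hn : N ≤ n) =>
    transition_inj_surj O E Y m pm hvan n (by omega) (by omega)
  refine ⟨?_, ?_⟩
  · exact RlimTruncB.limOne_of_eventually_surj N _ _ (fun n hn => (main n hn).2)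
  · intro k
    induction k with
    | zero =>
      intro x y hxy
      have h1 : ∀ z : HDUO O (CohCx.truncTower E (N + 0)) m Y,
          (Preadditive.rightComp _ ((shiftFunctor _ m).map
            (CohCx.transition (CohCx.truncTower E) (CohCx.truncTowerMap E) N 0))) z = z := by
        intro z
        change z ≫ (shiftFunctor _ m).map (𝟙 _) = z
        rw [CategoryTheory.Functor.map_id]
        exact Category.comp_id z
      rw [h1, h1] at hxy
      exact hxy
    | succ k ih =>
      intro x y hxy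
      have h1 : ∀ z : HDUO O (CohCx.truncTower E (N + (k + 1))) m Y,
          (Preadditive.rightComp _ ((shiftFunctor _ m).map
            (CohCx.transition (CohCx.truncTower E) (CohCx.truncTowerMap E) N (k + 1)))) z =
          (Preadditive.rightComp _ ((shiftFunctor _ m).map
            (CohCx.transition (CohCx.truncTower E) (CohCx.truncTowerMap E) N k)))
            (z ≫ (CohCx.truncTowerMap E (N + k))⟦m⟧') := by
        intro z
        change z ≫ (shiftFunctor _ m).map (CohCx.truncTowerMap E (N + k) ≫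
          CohCx.transition (CohCx.truncTower E) (CohCx.truncTowerMap E) N k) = _
        rw [CategoryTheory.Functor.map_comp, ← Category.assoc]
        rfl
      rw [h1, h1] at hxy
      exact (main (N + k) (Nat.le_add_right N k)).1 (ih hxy)

/-- **`E = R lim τ_{≥ -n} E`** in `D(O)`: if every object is covered by members of `B` and every `V ∈ B` has a
function `p(V, -)` such that every covering sieve of `V` contains a covering family `{V_i → V}` with
`H^k(V_i, H^{m-k}(E)) = 0` for all `m` and `k > p(V, m)`. -/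
theorem isRlimVia_truncTower (E : DerivedCategory (ModSite.Mod O))
    [HasProduct (CohCx.truncTower E)] (B : Set C)
    (hB : ∀ U : C, ∃ (ι : Type u) (Y : ι → C) (f : ∀ i, Y i ⟶ U),
      Sieve.ofArrows Y f ∈ J U ∧ ∀ i, Y i ∈ B)
    (h : ∀ V ∈ B, ∃ p : ℤ → ℤ, ∀ T ∈ J V, ∃ (ι : Type u) (Y : ι → C) (f : ∀ i, Y i ⟶ V),
      (∀ i, T.arrows (f i)) ∧ Sieve.ofArrows Y f ∈ J V ∧
      ∀ (i : ι) (m : ℤ) (k : ℕ), p m < k → Subsingleton
        (ModSite.HU O ((DerivedCategory.homologyFunctor (ModSite.Mod O) (m - k)).obj E) k (Y i))) :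
    CohCx.IsRlimVia (CohCx.truncTower E) (CohCx.truncTowerMap E) E (CohCx.toTruncTower E) := by
  apply RlimTruncC.isRlimVia_of_mono E
  intro R a hR m
  let K := CohCx.truncTower E
  let tt := CohCx.truncTowerMap E
  let φ := (toSh O).map ((DerivedCategory.homologyFunctor (ModSite.Mod O) m).map (a (-m).toNat))
  -- injectivity on sections over members of `B`
  have key : ∀ V ∈ B, ∀ s : (HDO O R m).obj.obj (op V),
      (φ.hom.app (op V)).hom s = 0 → s = 0 := by
    intro V hV s hs
    obtain ⟨p, hp⟩ := h V hV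
    let n₀ := (-m).toNat
    let k := (p m - m).toNat
    have hak := RlimInjA.a_comp_transition hR n₀ k
    have hiso := RlimTruncA.isIso_homologyMap_transition E n₀ k m (by omega)
    have hs' : (((toSh O).map ((DerivedCategory.homologyFunctor (ModSite.Mod O) m).map
        (a (n₀ + k)))).hom.app (op V)).hom s = 0 := by
      apply (RlimInjB.bijective_of_isIso J
        ((toSh O).map ((DerivedCategory.homologyFunctor (ModSite.Mod O) m).map
          (CohCx.transition K tt n₀ k))) V).1
      rw [← RlimInjB.comp_apply' J, ← Functor.map_comp, ← Functor.map_comp, hak, map_zero]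
      exact hs
    have hinj := injective_of_hyp O K tt R a hR V m (n₀ + k) (by
      intro T hT
      obtain ⟨ι, Y, f, hfT, hcov, hvan⟩ := hp T hT
      refine ⟨ι, Y, f, hfT, hcov, fun i => ?_⟩
      exact hyp_of_vanishing O E (Y i) m (p m)
        (fun k' hk' => hvan i m k' hk') (n₀ + k) (by omega) (by omega))
    exact hinj (hs'.trans (map_zero _).symm)
  -- injectivity on all sections
  have hmono : Mono φ.hom := by
    rw [NatTrans.mono_iff_mono_app]
    intro V
    rw [AddCommGrpCat.mono_iff_injective]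
    refine (injective_iff_map_eq_zero (φ.hom.app V).hom).2 ?_
    intro s hs
    obtain ⟨ι, Y, f, hcov, hYB⟩ := hB V.unop
    refine RlimInjB.eq_zero_of_cover J _ V.unop s (Sieve.ofArrows Y f) hcov ?_
    intro W g hg
    obtain ⟨i, u, rfl⟩ := (Sieve.mem_ofArrows_iff Y f g).1 hg
    have h1 : ((HDO O R m).obj.map (f i).op).hom s = 0 := by
      apply key (Y i) (hYB i)
      rw [RlimInjB.res_comm J]
      have : (φ.hom.app (Opposite.op V.unop)).hom s = 0 := hs
      rw [this, map_zero]
    have h2 : ((HDO O R m).obj.map (u ≫ f i).op).hom s =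
        ((HDO O R m).obj.map u.op).hom (((HDO O R m).obj.map (f i).op).hom s) := by
      rw [op_comp, Functor.map_comp]
      rfl
    refine h2.trans ?_
    rw [h1, map_zero]
  have hmono' : Mono φ := (Sheaf.Hom.mono_iff_presheaf_mono J AddCommGrpCat.{u} φ).2 hmono
  exact (toSh O).mono_of_mono_map hmono'

end Groth.Agent.H45.RlimMod
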